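import Cfsg.Agent.Fusion.Frattini
import Cfsg.Agent.Control.Basic
import Cfsg.Agent.Layer.PConstraint

/-!
# A strongly closed abelian 2-subgroup of a solvable group lies in `O_{2',2}`
-/

set_option autoImplicit false

namespace Cfsg.Agent.ClosedSE

open Subgroup

universe u

variable {H : Type u} [Group H] [Finite H]

/-- The case of a group with self-centralising `O₂`. -/
theorem closed_le_pCore (hsc : centralizer (Cfsg.pCore 2 H : Set H) ≤ Cfsg.pCore 2 H)
    (T : Subgroup H) (hQT : Cfsg.pCore 2 H ≤ T) {B : Subgroup H} (hBT : B ≤ T)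
    (hab : ∀ a ∈ B, ∀ b ∈ B, a * b = b * a) (hcl : ∀ b ∈ B, ∀ h : H, h * b * h⁻¹ ∈ T → h * b * h⁻¹ ∈ B) :
    B ≤ Cfsg.pCore 2 H := by
  have : Fact (Nat.Prime 2) := ⟨Nat.prime_two⟩
  set Q := Cfsg.pCore 2 H
  have hQn : Q.Normal := Core.pCore_normal
  set B0 := B ⊓ Q
  have hB0 : B0.Normal := ⟨fun b hb g => by
    have hq := hQn.conj_mem b hb.2 g
    exact ⟨hcl b hb.1 g (hQT hq), hq⟩⟩
  set f := QuotientGroup.mk' B0
  set K := centralizer (B0 : Set H) ⊓ (centralizer (Q.map f : Set (H ⧸ B0))).comap f with hKdef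
  have : (Q.map f).Normal := hQn.map f (QuotientGroup.mk'_surjective B0)
  have hKn : K.Normal := inferInstance
  have hmem : ∀ k : H, k ∈ K ↔ k ∈ centralizer (B0 : Set H) ∧ ∀ q ∈ Q, k * q * k⁻¹ * q⁻¹ ∈ B0 := by
    intro k
    refine and_congr_right fun _ => ?_
    show f k ∈ centralizer (Q.map f : Set (H ⧸ B0)) ↔ _
    rw [mem_centralizer_iff]
    constructor
    · intro h q hq
      refine (QuotientGroup.eq_one_iff _).1 ?_
      have := h (f q) (mem_map_of_mem f hq)
      show f (k * q * k⁻¹ * q⁻¹) = 1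
      rw [map_mul, map_mul, map_mul, map_inv, map_inv, ← this]
      group
    · rintro h _ ⟨q, hq, rfl⟩
      have h1 : f (k * q * k⁻¹ * q⁻¹) = 1 := (QuotientGroup.eq_one_iff _).2 (h q hq)
      rw [map_mul, map_mul, map_mul, map_inv, map_inv, mul_inv_eq_one, mul_inv_eq_iff_eq_mul] at h1
      exact h1.symm
  have hBK : B ≤ K := by
    intro b hb
    refine (hmem b).2 ⟨mem_centralizer_iff.2 fun c hc => hab c (mem_inf.1 hc).1 b hb, fun q hq => ?_⟩
    have hq1 : q * b⁻¹ * q⁻¹ ∈ B := hcl b⁻¹ (inv_mem hb) q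
      (mul_mem (mul_mem (hQT hq) (hBT (inv_mem hb))) (inv_mem (hQT hq)))
    refine mem_inf.2 ⟨?_, mul_mem (hQn.conj_mem q hq b) (inv_mem hq)⟩
    rw [show b * q * b⁻¹ * q⁻¹ = b * (q * b⁻¹ * q⁻¹) by group]
    exact mul_mem hb hq1
  have hKp : IsPGroup 2 K := by
    intro x
    obtain ⟨i, m, hm, hodd⟩ := Nat.exists_eq_two_pow_mul_odd (orderOf_pos x).ne'
    refine ⟨i, ?_⟩
    set y : K := x ^ 2 ^ i with hy
    have hym : (y : H) ^ m = 1 := by
      rw [← SubmonoidClass.coe_pow, hy, ← pow_mul, ← hodd, pow_orderOf_eq_one, OneMemClass.coe_one]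
    obtain ⟨hyc, hyq⟩ := (hmem y).1 y.2
    have hyC : (y : H) ∈ centralizer (Q : Set H) := by
      refine mem_centralizer_iff.2 fun q hq => ?_
      set c := (y : H) * q * (y : H)⁻¹ * q⁻¹ with hc
      have hcB : c ∈ B0 := hyq q hq
      have hcy : (y : H) * c = c * (y : H) := (mem_centralizer_iff.1 hyc c hcB).symm
      have hstep : ∀ n : ℕ, (y : H) ^ n * q * ((y : H) ^ n)⁻¹ = c ^ n * q := by
        intro n
        induction n with
        | zero => simp
        | succ n ih =>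
          rw [pow_succ' (y : H), mul_inv_rev,
            show (y : H) * (y : H) ^ n * q * (((y : H) ^ n)⁻¹ * (y : H)⁻¹) =
              (y : H) * ((y : H) ^ n * q * ((y : H) ^ n)⁻¹) * (y : H)⁻¹ by group, ih,
            show (y : H) * (c ^ n * q) * (y : H)⁻¹ = ((y : H) * c ^ n) * q * (y : H)⁻¹ by group,
            (Commute.pow_right (show Commute (y : H) c from hcy) n).eq, pow_succ, hc]
          group
      have hcm : c ^ m = 1 := by
        have := hstep m
        rw [hym, inv_one, one_mul, mul_one] at this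
        exact mul_eq_right.1 this.symm
      obtain ⟨j, hj⟩ := (Core.pCore_isPGroup (p := 2) (G := H)) ⟨c, (mem_inf.1 hcB).2⟩
      have hc1 : c = 1 := by
        rw [← pow_one c, ← orderOf_dvd_iff_pow_eq_one]
        exact Nat.eq_one_of_dvd_coprimes ((Nat.coprime_two_left.2 hm).pow_left j)
          (orderOf_dvd_of_pow_eq_one (congrArg Subtype.val hj)) (orderOf_dvd_of_pow_eq_one hcm) |>.dvd
      rw [hc, mul_inv_eq_one, mul_inv_eq_iff_eq_mul] at hc1
      exact hc1.symm
    obtain ⟨j, hj⟩ := (Core.pCore_isPGroup (p := 2) (G := H)) ⟨(y : H), hsc hyC⟩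
    have hy1 : orderOf (y : H) = 1 := Nat.eq_one_of_dvd_coprimes
      ((Nat.coprime_two_left.2 hm).pow_left j)
      (orderOf_dvd_of_pow_eq_one (congrArg Subtype.val hj)) (orderOf_dvd_of_pow_eq_one hym)
    exact Subtype.ext (orderOf_eq_one_iff.1 hy1)
  exact hBK.trans (Core.le_pCore hKp)

/-- A strongly closed abelian 2-subgroup of a solvable group lies in `O_{2',2}`. -/
theorem closed_le_pPrimePCore [Group.IsSolvable H] (T : Sylow 2 H) {B : Subgroup H}
    (hBT : B ≤ T) (hab : ∀ a ∈ B, ∀ b ∈ B, a * b = b * a)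
    (hcl : ∀ b ∈ B, ∀ h : H, h * b * h⁻¹ ∈ (T : Subgroup H) → h * b * h⁻¹ ∈ B) :
    B ≤ Cfsg.pPrimePCore 2 H := by
  have : Fact (Nat.Prime 2) := ⟨Nat.prime_two⟩
  set O := Cfsg.pPrimeCore 2 H
  set f := QuotientGroup.mk' O with hf
  have hfs : Function.Surjective f := QuotientGroup.mk'_surjective O
  intro b hb
  refine mem_comap.2 (closed_le_pCore (H := H ⧸ O)
    (Layer.isPConstrained_iff_selfCentral.1 Layer.isPConstrained_of_isSolvable)
    (T.mapSurjective hfs) (Core.pCore_le_sylow _) (B := B.map f) (map_mono hBT) ?_ ?_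
    (mem_map_of_mem f hb))
  · rintro _ ⟨x, hx, rfl⟩ _ ⟨y, hy, rfl⟩
    rw [← map_mul, ← map_mul, hab x hx y hy]
  rintro _ ⟨x, hx, rfl⟩ h' hh'
  obtain ⟨h, rfl⟩ := hfs h'
  rw [← map_inv, ← map_mul, ← map_mul] at hh' ⊢
  set e := h * x * h⁻¹
  obtain ⟨t, ht, hte⟩ := hh'
  set L := (T : Subgroup H) ⊔ O
  have hTL : Control.SylIn 2 (T : Subgroup H) L := (Control.sylIn_top T).mono le_sup_left le_top
  have heL : e ∈ L := by
    have := mul_mem (mem_sup_left (T := O) ht)
      (mem_sup_right (S := (T : Subgroup H)) ((QuotientGroup.eq (s := O)).1 hte))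
    rwa [mul_inv_cancel_left] at this
  have hep : IsPGroup 2 (zpowers e) := by
    have := ((T.2.to_le hBT).to_le (zpowers_le.2 hx)).map (MulAut.conj h).toMonoidHom
    rwa [MonoidHom.map_zpowers] at this
  obtain ⟨k, hk, hle⟩ := hTL.exists_cjSub_le hep (zpowers_le.2 heL)
  have hke : k * e * k⁻¹ ∈ (T : Subgroup H) := hle ⟨e, mem_zpowers e, rfl⟩
  obtain ⟨t', ht', o, ho, rfl⟩ := mem_sup_of_normal_right.1 hk
  have h2 : o * e * o⁻¹ ∈ (T : Subgroup H) := by
    have := mul_mem (mul_mem (inv_mem ht') hke) ht'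
    rwa [show t'⁻¹ * (t' * o * e * (t' * o)⁻¹) * t' = o * e * o⁻¹ by group] at this
  have h3 : o * e * o⁻¹ ∈ B := by
    rw [show o * e * o⁻¹ = (o * h) * x * (o * h)⁻¹ by simp only [e]; group] at h2 ⊢
    exact hcl x hx _ h2
  refine ⟨o * e * o⁻¹, h3, ?_⟩
  rw [map_mul, map_mul, map_inv, show f o = 1 from (QuotientGroup.eq_one_iff o).2 ho, one_mul,
    inv_one, mul_one]

end Cfsg.Agent.ClosedSE
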