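import Cfsg.Agent.S4Comp.Closed

/-!
# The closed subgroup generated by the conjugates of `Ω₁(Z(S))` under the normaliser of `J(S)`
-/

set_option autoImplicit false

namespace Cfsg.Agent.ClosedSE

open Subgroup
open Cfsg.Agent.SfFree (jS jS_le)
open Cfsg.Agent.S4Comp (jh wJ zF SecHyp)

universe u

variable {G : Type u} [Group G]

/-- The conjugates of `Ω₁(Z(S))` under the normaliser of `J(S)`. -/
def aJ (S : Subgroup G) : Subgroup G :=
  closure {x : G | ∃ n ∈ normalizer (jS S : Set G), ∃ z ∈ Cfsg.omegaOne 2 (zF S), x = n * z * n⁻¹}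

theorem omega_zF_le_aJ (S : Subgroup G) : Cfsg.omegaOne 2 (zF S) ≤ aJ S := fun z hz =>
  subset_closure ⟨1, one_mem _, z, hz, by group⟩

theorem normalizer_jS_le (S : Subgroup G) : normalizer (jS S : Set G) ≤ normalizer (aJ S : Set G) := by
  have key : ∀ n ∈ normalizer (jS S : Set G), ∀ x ∈ aJ S, n * x * n⁻¹ ∈ aJ S := by
    intro n hn x hx
    have h1 : (aJ S).map (MulAut.conj n).toMonoidHom ≤ aJ S := by
      rw [aJ, MonoidHom.map_closure, closure_le]
      rintro _ ⟨_, ⟨m, hm, z, hz, rfl⟩, rfl⟩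
      refine subset_closure ⟨n * m, mul_mem hn hm, z, hz, ?_⟩
      show n * (m * z * m⁻¹) * n⁻¹ = n * m * z * (n * m)⁻¹
      group
    exact h1 ⟨x, hx, rfl⟩
  intro n hn
  refine mem_normalizer_iff.2 fun x => ⟨key n hn x, fun hx => ?_⟩
  have := key n⁻¹ (inv_mem hn) _ hx
  rwa [show n⁻¹ * (n * x * n⁻¹) * n⁻¹⁻¹ = x by group] at this

variable [Finite G]

/-- The normaliser of the Thompson subgroup moves `Ω₁(Z(S))` inside `Ω₁(Z(Ĵ(S)))`. -/
theorem conj_mem_wJ (h : SecHyp G) (S : Sylow 2 G) {n z : G}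
    (hn : n ∈ normalizer (jS (S : Subgroup G) : Set G))
    (hz : z ∈ Cfsg.omegaOne 2 (zF (S : Subgroup G))) : n * z * n⁻¹ ∈ wJ (S : Subgroup G) := by
  have := Fact.mk Nat.prime_two
  set J := jS (S : Subgroup G)
  have hzw : z ∈ wJ (S : Subgroup G) := by
    have h1 : zF (S : Subgroup G) ≤ jh (S : Subgroup G) ⊓ centralizer (jh (S : Subgroup G) : Set G) :=
      le_inf (S4Comp.center_le_jh _) (inf_le_right.trans (centralizer_le (S4Comp.jh_le _)))
    exact Thompson.omegaOne_mono h1 hz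
  have hzJ : z ∈ J := S4Comp.wJ_le_jS _ hzw
  have hzS : z ∈ zF (S : Subgroup G) := Thompson.omegaOne_le 2 _ hz
  set R := (S : Subgroup G) ⊓ centralizer (J : Set G) with hR
  have hSJ : (S : Subgroup G) ≤ normalizer (J : Set G) := SfFree.le_normalizer_jS _
  have hCJ : normalizer (J : Set G) ≤ normalizer (centralizer (J : Set G) : Set G) :=
    Coprime.le_normalizer_centralizer le_rfl
  obtain ⟨c, hc, m, hm, e⟩ := S4Comp.frattini_in ((Control.sylIn_top S).mono hSJ le_top) hCJ (inv_mem hn)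
  set X := normalizer (J : Set G) ⊓ normalizer (R : Set G)
  have hSX : (S : Subgroup G) ≤ X := le_inf hSJ
    ((le_inf le_normalizer (hSJ.trans hCJ)).trans inf_normalizer_le_normalizer_inf)
  let SX : Sylow 2 X := S.subtype hSX
  have hSXe : (SX : Subgroup X) = (S : Subgroup G).subgroupOf X := rfl
  have hSXm : (SX : Subgroup X).map X.subtype = (S : Subgroup G) := by
    rw [hSXe]; exact map_subgroupOf_eq_of_le hSX
  have hJp : J.subgroupOf X ≤ Cfsg.pCore 2 X := by
    have : (J.subgroupOf X).Normal :=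
      normal_subgroupOf_of_le_normalizer inf_le_left
    exact Core.le_pCore ((S.2.to_le (jS_le _)).comap_subtype)
  have hRp : R.subgroupOf X ≤ Cfsg.pCore 2 X := by
    have : (R.subgroupOf X).Normal :=
      normal_subgroupOf_of_le_normalizer inf_le_right
    exact Core.le_pCore ((S.2.to_le inf_le_left).comap_subtype)
  have hT : (SX : Subgroup X) ⊓ centralizer (Cfsg.pCore 2 X : Set X) ≤ Cfsg.pCore 2 X := by
    rintro ⟨t, htX⟩ ⟨htS, htc⟩
    refine hRp (mem_subgroupOf.2 (mem_inf.2 ⟨?_, ?_⟩))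
    · rw [hSXe] at htS; exact mem_subgroupOf.1 htS
    · refine mem_centralizer_iff.2 fun j hj => ?_
      have hjX : j ∈ X := hSX (jS_le _ hj)
      exact congrArg Subtype.val (mem_centralizer_iff.1 htc ⟨j, hjX⟩ (hJp (mem_subgroupOf.2 hj)))
  obtain ⟨c', hc', n', hn', e'⟩ := (S4Comp.cent_fac (h.subgroup X) SX hT).1 ⟨m, hm⟩
  have hn'G : (n' : G) ∈ normalizer (jh (S : Subgroup G) : Set G) := by
    rw [← hSXm, S4Comp.jh_map X.subtype_injective]
    exact le_normalizer_map X.subtype ⟨n', hn', rfl⟩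
  have hzX : z ∈ X := hSX hzS.1
  have hcz : Commute (c' : G) z := by
    refine congrArg Subtype.val (mem_centralizer_iff.1 hc' ⟨z, hzX⟩ ?_).symm
    refine mem_inf.2 ⟨by rw [hSXe]; exact mem_subgroupOf.2 hzS.1, mem_centralizer_iff.2 fun s hs => ?_⟩
    rw [hSXe] at hs
    exact Subtype.ext (mem_centralizer_iff.1 hzS.2 (s : G) (mem_subgroupOf.1 hs))
  have hcz0 : Commute c z := (mem_centralizer_iff.1 (mem_inf.1 hc).1 z hzJ).symm
  have e2 : n⁻¹ = c * ((c' : G) * (n' : G)) := by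
    rw [e]; exact congrArg (c * ·) (congrArg Subtype.val e')
  have e3 : n = ((n' : G))⁻¹ * ((c' : G) ⁻¹ * c⁻¹) := by
    rw [← inv_inv n, e2]; group
  have e4 : n * z * n⁻¹ = (n' : G)⁻¹ * z * (n' : G) := by
    rw [e3]
    have h1 : c⁻¹ * z * c = z := by rw [mul_assoc, ← hcz0.eq]; group
    have h2 : (c' : G)⁻¹ * z * c' = z := by rw [mul_assoc, ← hcz.eq]; group
    calc _ = (n' : G)⁻¹ * ((c' : G)⁻¹ * (c⁻¹ * z * c) * c') * n' := by group
      _ = _ := by rw [h1, h2]
  rw [e4]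
  -- the normaliser of `Ĵ` normalises `Ω₁(Z(Ĵ))`
  have hWn : normalizer (jh (S : Subgroup G) : Set G) ≤ normalizer (wJ (S : Subgroup G) : Set G) := by
    intro g hg
    refine mem_normalizer_iff_map_conj_eq.2 ?_
    have hg' := mem_normalizer_iff_map_conj_eq.1 hg
    rw [S4Comp.wJ, Thompson.omegaOne_map_of_injective (f := ((MulAut.conj g : G ≃* G) : G →* G)) (p := 2) (MulAut.conj g).injective,
      SfFree.map_inf_centralizer (ι := ((MulAut.conj g : G ≃* G) : G →* G)) (MulAut.conj g).injective]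
    exact congrArg (fun U : Subgroup G => Cfsg.omegaOne 2 (U ⊓ centralizer (U : Set G))) hg'
  have := (mem_normalizer_iff.1 (inv_mem (hWn hn'G)) z).1 hzw
  rwa [inv_inv] at this

theorem aJ_le_wJ (h : SecHyp G) (S : Sylow 2 G) : aJ (S : Subgroup G) ≤ wJ (S : Subgroup G) := by
  rw [aJ, closure_le]
  rintro _ ⟨n, hn, z, hz, rfl⟩
  exact conj_mem_wJ h S hn hz

/-- `aJ S` is strongly closed in `S`. -/
theorem aJ_closed (h : SecHyp G) (S : Sylow 2 G) :
    ∀ a ∈ aJ (S : Subgroup G), ∀ g : G,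
      g * a * g⁻¹ ∈ (S : Subgroup G) → g * a * g⁻¹ ∈ aJ (S : Subgroup G) :=
  S4Comp.closed h S _ (aJ_le_wJ h S) (normalizer_jS_le _)

end Cfsg.Agent.ClosedSE
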