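import Cfsg.Agent.ClosedSE.AQ
import Cfsg.Agent.Signalizer.Main
import Cfsg.Agent.Signalizer.RankGraph
import Cfsg.Agent.Coprime.Generation
import Cfsg.Agent.LocalStructure.StronglyEmbedded
import Cfsg.Agent.Invol.StronglyEmbedded
import Cfsg.Agent.FTCons.Basic

/-!
# A strongly closed elementary abelian 2-subgroup of order at least 8 in a minimal simple group
gives a strongly embedded subgroup
-/

set_option autoImplicit false

namespace Cfsg.Agent.ClosedSE

open Subgroup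

universe u

variable {G : Type u} [Group G] [Finite G]

/-- The setting. -/
structure Ctx (S : Sylow 2 G) (A : Subgroup G) : Prop where
  simple : IsSimpleGroup G
  ncyc : ¬ IsCyclic G
  solv : ∀ H : Subgroup G, H ≠ ⊤ → Group.IsSolvable H
  ea : Cfsg.IsElementaryAbelian 2 A
  le : A ≤ (S : Subgroup G)
  closed : ∀ a ∈ A, ∀ g : G, g * a * g⁻¹ ∈ (S : Subgroup G) → g * a * g⁻¹ ∈ A
  card8 : 8 ≤ Nat.card A
  central : ∃ z ∈ A, z ≠ 1 ∧ (S : Subgroup G) ≤ centralizer ({z} : Set G)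

variable {S : Sylow 2 G} {A : Subgroup G}

local notation "θ" => Cfsg.centralizerPPrimeCore 2

/-- The candidate for the strongly embedded subgroup. -/
def core (A : Subgroup G) : Subgroup G :=
  normalizer (A : Set G) ⊔ Cfsg.signalizerClosure A (Cfsg.centralizerPPrimeCore 2)

theorem Ctx.mul_comm (h : Ctx S A) : ∀ a ∈ A, ∀ b ∈ A, a * b = b * a := fun a ha b hb =>
  congrArg Subtype.val (h.ea.1.is_comm.comm ⟨a, ha⟩ ⟨b, hb⟩)

theorem Ctx.orderOf_eq (h : Ctx S A) {a : G} (ha : a ∈ A) (ha1 : a ≠ 1) : orderOf a = 2 :=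
  orderOf_eq_prime (h.ea.2 a ha) ha1

theorem Ctx.centralizer_ne_top (h : Ctx S A) {a : G} (ha : a ≠ 1) :
    centralizer ({a} : Set G) ≠ ⊤ := fun e => by
  have := h.simple
  refine h.ncyc (FTCons.isCyclic_of_central (z := a) (mem_center_iff.2 fun g => ?_) ha)
  exact mem_centralizer_singleton_iff.1 (e.ge (mem_top g))

theorem Ctx.le_normalizer (h : Ctx S A) :
    normalizer ((S : Subgroup G) : Set G) ≤ normalizer (A : Set G) := by
  intro n hn
  refine mem_normalizer_iff_map_conj_eq.2 (eq_of_le_of_card_ge ?_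
    (card_map_of_injective (MulAut.conj n).injective).ge)
  rintro _ ⟨a, ha, rfl⟩
  exact h.closed a ha n ((mem_normalizer_iff.1 hn a).1 (h.le ha))

theorem Ctx.sylow_le_normalizer (h : Ctx S A) : (S : Subgroup G) ≤ normalizer (A : Set G) :=
  Subgroup.le_normalizer.trans h.le_normalizer

/-- The normaliser of `A` controls the fusion in `A`. -/
theorem Ctx.control (h : Ctx S A) {a g : G} (ha : a ∈ A) (hg : g * a * g⁻¹ ∈ A) :
    ∃ n ∈ normalizer (A : Set G), n * a * n⁻¹ = g * a * g⁻¹ := by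
  have : Fact (Nat.Prime 2) := ⟨Nat.prime_two⟩
  set C := centralizer ({g * a * g⁻¹} : Set G)
  have hAp : IsPGroup 2 A := S.2.to_le h.le
  have h1 : A ≤ C := fun b hb => mem_centralizer_singleton_iff.2 (h.mul_comm b hb _ hg)
  have h2 : Control.cjSub g A ≤ C := by
    rintro _ ⟨b, hb, rfl⟩
    refine mem_centralizer_singleton_iff.2 ?_
    show g * b * g⁻¹ * (g * a * g⁻¹) = g * a * g⁻¹ * (g * b * g⁻¹)
    calc _ = g * (b * a) * g⁻¹ := by group
      _ = _ := by rw [h.mul_comm b hb a ha]; group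
  obtain ⟨T, hT, hAT⟩ := Control.SylIn.exists_ge (p := 2) hAp h1
  obtain ⟨c, hc, hcT⟩ := hT.exists_cjSub_le (Control.isPGroup_cjSub hAp) h2
  obtain ⟨k, -, hk⟩ := (Control.sylIn_top S).exists_cjSub_le hT.isPGroup le_top
  have key : ∀ x : G, Control.cjSub x A ≤ (S : Subgroup G) → Control.cjSub x A = A := fun x hx =>
    eq_of_le_of_card_ge (by rintro _ ⟨b, hb, rfl⟩; exact h.closed b hb x (hx ⟨b, hb, rfl⟩))
      (Control.card_cjSub x A).ge
  have e1 : Control.cjSub k A = A := key k ((map_mono hAT).trans hk)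
  have e2 : Control.cjSub (k * (c * g)) A = A := key _ (by
    rw [← Control.cjSub_cjSub, ← Control.cjSub_cjSub c g]
    exact (map_mono hcT).trans hk)
  refine ⟨c * g, ?_, ?_⟩
  · have h3 := mul_mem (inv_mem (Control.mem_normalizer_of_cjSub_eq e1))
      (Control.mem_normalizer_of_cjSub_eq e2)
    rwa [inv_mul_cancel_left] at h3
  · calc c * g * a * (c * g)⁻¹ = c * (g * a * g⁻¹) * c⁻¹ := by group
      _ = g * a * g⁻¹ := by rw [mem_centralizer_singleton_iff.1 hc]; group

theorem Ctx.isPConstrained (h : Ctx S A) {a : G} (ha : a ≠ 1) :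
    Cfsg.IsPConstrained 2 ↥(centralizer ({a} : Set G)) := by
  have : Fact (Nat.Prime 2) := ⟨Nat.prime_two⟩
  have := h.solv _ (h.centralizer_ne_top ha)
  exact Layer.isPConstrained_of_isSolvable

omit [Finite G] in
theorem core_le (a : G) : θ a ≤ centralizer ({a} : Set G) := map_subtype_le _

theorem not_dvd_core (a : G) : ¬ 2 ∣ Nat.card (θ a) := by
  have : Fact (Nat.Prime 2) := ⟨Nat.prime_two⟩
  rw [Cfsg.centralizerPPrimeCore,
    card_map_of_injective (centralizer ({a} : Set G)).subtype_injective]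
  exact Core.not_dvd_card_pPrimeCore

omit [Finite G] in
theorem conj_mem_core {a b x : G} (hab : b * a = a * b) (hx : x ∈ θ a) : b * x * b⁻¹ ∈ θ a := by
  have e : b * a * b⁻¹ = a := by rw [hab, mul_inv_cancel_right]
  show b * x * b⁻¹ ∈ θ a
  rw [show θ a = θ (b * a * b⁻¹) by rw [e], Signalizer.core_conj]
  exact ⟨x, hx, rfl⟩

theorem Ctx.functor (h : Ctx S A) :
    Cfsg.IsSolvableSignalizerFunctor 2 A (Cfsg.centralizerPPrimeCore 2) := by
  have : Fact (Nat.Prime 2) := ⟨Nat.prime_two⟩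
  refine ⟨⟨fun a _ _ => core_le a, fun a _ _ => not_dvd_core a,
    fun a ha _ b hb x hx => conj_mem_core (h.mul_comm b hb a ha) hx,
    fun a ha ha1 b hb hb1 => Signalizer.core_balance (h.mul_comm a ha b hb) (h.orderOf_eq ha ha1)
      (h.isPConstrained hb1)⟩, fun a _ ha1 => ?_⟩
  exact Core.isSolvable_mono (h.solv _ (h.centralizer_ne_top ha1)) (core_le a)

theorem Ctx.not_dvd_closure (h : Ctx S A) :
    ¬ 2 ∣ Nat.card (Cfsg.signalizerClosure A (Cfsg.centralizerPPrimeCore 2)) := by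
  have : Fact (Nat.Prime 2) := ⟨Nat.prime_two⟩
  exact (Signalizer.closure_spec h.ea (by simpa using h.card8) h.functor).1

theorem Ctx.normalizer_le_normalizer_closure (h : Ctx S A) :
    normalizer (A : Set G) ≤
      normalizer (Cfsg.signalizerClosure A (Cfsg.centralizerPPrimeCore 2) : Set G) := by
  intro n hn
  refine mem_normalizer_iff_map_conj_eq.2 (eq_of_le_of_card_ge ?_
    (card_map_of_injective (MulAut.conj n).injective).ge)
  unfold Cfsg.signalizerClosure
  rw [Subgroup.map_iSup]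
  refine iSup_le fun a => ?_
  show (θ (a : G)).map (MulAut.conj n).toMonoidHom ≤ _
  rw [← Signalizer.core_conj]
  exact le_iSup (fun b : {b : G // b ∈ A ∧ b ≠ 1} => θ (b : G))
    ⟨n * a * n⁻¹, (mem_normalizer_iff.1 hn _).1 a.2.1, fun e => a.2.2 (conj_eq_one_iff.1 e)⟩

theorem Ctx.ne_bot (h : Ctx S A) : A ≠ ⊥ := fun e => by
  have := h.card8
  rw [e, card_bot] at this
  omega

theorem Ctx.core_ne_top (h : Ctx S A) : core A ≠ ⊤ := by
  have := h.simple
  have : Fact (Nat.Prime 2) := ⟨Nat.prime_two⟩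
  have heven : 2 ∣ Nat.card G := by
    obtain ⟨z, hz, hz1, -⟩ := h.central
    exact h.orderOf_eq hz hz1 ▸ orderOf_dvd_natCard z
  have hproper : ∀ X : Subgroup G, X ≠ ⊥ → X ≠ ⊤ → normalizer (X : Set G) ≠ ⊤ := fun X hb ht e => by
    rcases IsSimpleGroup.eq_bot_or_eq_top_of_normal X (normalizer_eq_top_iff.1 e) with h1 | h1
    exacts [hb h1, ht h1]
  set W := Cfsg.signalizerClosure A (Cfsg.centralizerPPrimeCore 2) with hW
  unfold core
  rw [← hW]
  rcases eq_or_ne W ⊥ with e | e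
  · rw [e, sup_bot_eq]
    refine hproper A h.ne_bot fun e' => h.ncyc ?_
    obtain ⟨z, hz, hz1, -⟩ := h.central
    refine FTCons.isCyclic_of_central (z := z) (mem_center_iff.2 fun g => ?_) hz1
    exact h.mul_comm g (e'.ge (mem_top g)) z hz
  · refine ne_top_of_le_ne_top (hproper W e fun e' => h.not_dvd_closure ?_)
      (sup_le h.normalizer_le_normalizer_closure Subgroup.le_normalizer)
    rw [← hW, e', card_top]
    exact heven

theorem Ctx.core_le_core (h : Ctx S A) {t : G} (ht : t ∈ (S : Subgroup G)) (ht2 : orderOf t = 2) :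
    θ t ≤ core A := by
  have : Fact (Nat.Prime 2) := ⟨Nat.prime_two⟩
  set B := A ⊓ centralizer ({t} : Set G) with hB
  have hAt : ∀ a ∈ A, t * a * t⁻¹ ∈ A := fun a ha =>
    (mem_normalizer_iff.1 (h.sylow_le_normalizer ht) a).1 ha
  have hBc : IsMulCommutative B :=
    ⟨⟨fun a b => Subtype.ext (h.mul_comm _ (mem_inf.1 a.2).1 _ (mem_inf.1 b.2).1)⟩⟩
  -- `B` is not cyclic
  let φ : A →* G :=
    { toFun := fun a => t * a * t⁻¹ * (a : G)⁻¹
      map_one' := by simp
      map_mul' := fun a b => by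
        have hc := h.mul_comm _ (hAt b b.2) _ (inv_mem a.2)
        calc t * ((a * b : A) : G) * t⁻¹ * ((a * b : A) : G)⁻¹
            = t * a * t⁻¹ * ((t * b * t⁻¹) * (b : G)⁻¹ * (a : G)⁻¹) := by
              rw [Subgroup.coe_mul]; group
          _ = t * a * t⁻¹ * (t * b * t⁻¹ * ((a : G)⁻¹ * (b : G)⁻¹)) := by
              rw [h.mul_comm (a : G)⁻¹ (inv_mem a.2) (b : G)⁻¹ (inv_mem b.2)]; group
          _ = t * a * t⁻¹ * ((a : G)⁻¹ * (t * b * t⁻¹ * (b : G)⁻¹)) := by
              rw [← mul_assoc (t * b * t⁻¹), hc, mul_assoc (a : G)⁻¹]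
          _ = _ := by group }
  have hφB : φ.range ≤ B := by
    rintro _ ⟨a, rfl⟩
    have hcA : t * a * t⁻¹ * (a : G)⁻¹ ∈ A := mul_mem (hAt a a.2) (inv_mem a.2)
    refine mem_inf.2 ⟨hcA, mem_centralizer_singleton_iff.2 ?_⟩
    have hci : (t * a * t⁻¹ * (a : G)⁻¹)⁻¹ = t * a * t⁻¹ * (a : G)⁻¹ :=
      inv_eq_of_mul_eq_one_right (by rw [← pow_two]; exact h.ea.2 _ hcA)
    have ht' : t⁻¹ = t := inv_eq_of_mul_eq_one_right (by rw [← pow_two, ← ht2, pow_orderOf_eq_one])
    show (t * a * t⁻¹ * (a : G)⁻¹) * t = t * (t * a * t⁻¹ * (a : G)⁻¹)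
    conv_lhs => rw [← hci]
    rw [mul_inv_rev, mul_inv_rev, mul_inv_rev, inv_inv, inv_inv, ht']
    have htt : t * t = 1 := by rw [← pow_two, ← ht2, pow_orderOf_eq_one]
    calc (a : G) * (t * ((a : G)⁻¹ * t)) * t = a * t * (a : G)⁻¹ * (t * t) := by group
      _ = t * (t * a * t * (a : G)⁻¹) := by rw [htt, mul_one, ← mul_assoc, ← mul_assoc, ← mul_assoc, htt, one_mul]
  have hker : φ.ker.map A.subtype ≤ B := by
    rintro _ ⟨a, ha, rfl⟩
    refine mem_inf.2 ⟨a.2, mem_centralizer_singleton_iff.2 ?_⟩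
    have : t * a * t⁻¹ * (a : G)⁻¹ = 1 := ha
    rw [mul_inv_eq_one, mul_inv_eq_iff_eq_mul] at this
    exact this.symm
  have hle : Nat.card A ≤ Nat.card B * Nat.card B := by
    have h1 := φ.ker.index_mul_card
    rw [index_ker] at h1
    rw [← h1]
    exact Nat.mul_le_mul (card_le_of_le hφB)
      ((card_map_of_injective A.subtype_injective).ge.trans (card_le_of_le hker))
  have hnc : ¬ IsCyclic B := by
    intro hcy
    obtain ⟨g, hg⟩ := hcy.exists_generator
    have h2 : Nat.card B ≤ 2 := by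
      rw [← orderOf_eq_card_of_forall_mem_zpowers hg]
      exact Nat.le_of_dvd two_pos (orderOf_dvd_of_pow_eq_one (Subtype.ext (h.ea.2 _ (mem_inf.1 g.2).1)))
    have h3 : Nat.card A ≤ 4 := hle.trans (Nat.mul_le_mul h2 h2)
    have := h.card8
    omega
  have hBn : B ≤ normalizer (θ t : Set G) := fun b hb => by
    refine mem_normalizer_iff_map_conj_eq.2 (eq_of_le_of_card_ge ?_
      (card_map_of_injective (MulAut.conj b).injective).ge)
    rintro _ ⟨x, hx, rfl⟩
    exact conj_mem_core (mem_centralizer_singleton_iff.1 (mem_inf.1 hb).2) hx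
  have hcop : (Nat.card B).Coprime (Nat.card (θ t)) := by
    obtain ⟨k, hk⟩ := IsPGroup.iff_card.1 (S.2.to_le (inf_le_left.trans h.le) : IsPGroup 2 B)
    rw [hk]
    exact ((Nat.Prime.coprime_iff_not_dvd Nat.prime_two).2 (not_dvd_core t)).pow_left k
  rw [← Coprime.iSup_centralizer_eq hnc hBn hcop]
  refine iSup₂_le fun b hb => ?_
  obtain ⟨hb, hb1⟩ := hb
  refine le_trans ?_ (le_sup_right : _ ≤ core A)
  exact (Signalizer.core_balance (mem_centralizer_singleton_iff.1 (mem_inf.1 hb).2).symm ht2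
    (h.isPConstrained hb1)).trans
    (le_iSup (fun c : {c : G // c ∈ A ∧ c ≠ 1} => θ (c : G)) ⟨b, (mem_inf.1 hb).1, hb1⟩)

/-- The step of the induction. -/
theorem Ctx.centralizer_le_of_sylIn (h : Ctx S A) {t : G} (ht : t ∈ (S : Subgroup G))
    (ht2 : orderOf t = 2) (hT : Control.SylIn 2 ((S : Subgroup G) ⊓ centralizer {t}) (centralizer {t}))
    (hNB : ∀ n : G, (∀ b ∈ A ⊓ centralizer ({t} : Set G), n * b * n⁻¹ ∈ A ⊓ centralizer ({t} : Set G)) →
      n ∈ core A) :
    centralizer ({t} : Set G) ≤ core A := by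
  have : Fact (Nat.Prime 2) := ⟨Nat.prime_two⟩
  set X := centralizer ({t} : Set G) with hX
  have hsolv := h.solv X (h.centralizer_ne_top fun e => by rw [e, orderOf_one] at ht2; omega)
  let T : Sylow 2 X := (hT.isPGroup.comap_subtype (K := X)).toSylow hT.not_dvd
  have hTe : (T : Subgroup X) = ((S : Subgroup G) ⊓ X).subgroupOf X := rfl
  set B := (A ⊓ X).subgroupOf X with hB
  have hBT : B ≤ (T : Subgroup X) := fun b hb =>
    mem_subgroupOf.2 (inf_le_inf_right X h.le (mem_subgroupOf.1 hb))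
  have hcl : ∀ b ∈ B, ∀ x : X, x * b * x⁻¹ ∈ (T : Subgroup X) → x * b * x⁻¹ ∈ B := fun b hb x hx =>
    mem_subgroupOf.2 (mem_inf.2 ⟨h.closed (b : G) (mem_inf.1 (mem_subgroupOf.1 hb)).1 (x : G)
      (mem_inf.1 (mem_subgroupOf.1 hx)).1, (x * b * x⁻¹ : X).2⟩)
  have hBP := closed_le_pPrimePCore T hBT (fun a ha b hb => Subtype.ext
    (h.mul_comm _ (mem_inf.1 (mem_subgroupOf.1 ha)).1 _ (mem_inf.1 (mem_subgroupOf.1 hb)).1)) hcl
  intro g hg
  obtain ⟨d, hd, n, hn, e⟩ := Fusion.exists_pPrimeCore_mul T ⟨g, hg⟩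
  have hd' : (d : G) ∈ core A := h.core_le_core ht ht2 ⟨d, hd, rfl⟩
  have hn' : (n : G) ∈ core A := by
    refine hNB _ fun b hb => ?_
    have hbB : (⟨b, (mem_inf.1 hb).2⟩ : X) ∈ B := mem_subgroupOf.2 hb
    have h1 := (mem_normalizer_iff.1 hn ⟨b, (mem_inf.1 hb).2⟩).1 (mem_inf.2 ⟨hBT hbB, hBP hbB⟩)
    exact mem_subgroupOf.1 (hcl _ hbB n (mem_inf.1 h1).1)
  have := mul_mem hd' hn'
  rwa [← Subgroup.coe_mul, ← e] at this

theorem Ctx.mem_core_of_fix (h : Ctx S A) {z : G} (hzA : z ∈ A)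
    (hz : centralizer ({z} : Set G) ≤ core A) {n : G} (hn : n * z * n⁻¹ ∈ A) : n ∈ core A := by
  obtain ⟨m, hm, e⟩ := h.control hzA hn
  have h1 : m⁻¹ * n ∈ centralizer ({z} : Set G) := by
    refine mem_centralizer_singleton_iff.2 ?_
    calc m⁻¹ * n * z = m⁻¹ * (n * z * n⁻¹) * n := by group
      _ = z * (m⁻¹ * n) := by rw [← e]; group
  have := mul_mem (show m ∈ core A from mem_sup_left hm) (hz h1)
  rwa [mul_inv_cancel_left] at this

theorem Ctx.centralizer_le (h : Ctx S A) {t : G} (ht : t ∈ (S : Subgroup G)) (ht2 : orderOf t = 2) :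
    centralizer ({t} : Set G) ≤ core A := by
  have : Fact (Nat.Prime 2) := ⟨Nat.prime_two⟩
  obtain ⟨z, hzA, hz1, hzS⟩ := h.central
  have hz2 := h.orderOf_eq hzA hz1
  have hzc : centralizer ({z} : Set G) ≤ core A := by
    refine h.centralizer_le_of_sylIn (h.le hzA) hz2 ?_ fun n hn => ?_
    · rw [inf_eq_left.2 hzS]
      exact (Control.sylIn_top S).mono hzS le_top
    · have hAz : A ≤ centralizer ({z} : Set G) := h.le.trans hzS
      rw [inf_eq_left.2 hAz] at hn
      exact mem_sup_left (mem_normalizer_fintype (S := (A : Set G)) hn)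
  obtain ⟨n, hn⟩ : ∃ n, Nat.card G - Nat.card ↥((S : Subgroup G) ⊓ centralizer {t}) = n := ⟨_, rfl⟩
  induction n using Nat.strong_induction_on generalizing t with
  | _ n ih =>
  set X := centralizer ({t} : Set G) with hX
  set T := (S : Subgroup G) ⊓ X with hTdef
  have hzX : z ∈ X :=
    mem_centralizer_singleton_iff.2 (mem_centralizer_singleton_iff.1 (hzS ht)).symm
  have hNB : ∀ n : G, (∀ b ∈ A ⊓ X, n * b * n⁻¹ ∈ A ⊓ X) → n ∈ core A := fun n hn =>
    h.mem_core_of_fix hzA hzc (mem_inf.1 (hn z (mem_inf.2 ⟨hzA, hzX⟩))).1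
  by_cases hT : Control.SylIn 2 T X
  · exact h.centralizer_le_of_sylIn ht ht2 hT hNB
  obtain ⟨T1, hT1, hle⟩ := Control.SylIn.exists_ge (p := 2) (H := X) (S.2.to_le inf_le_left) inf_le_right
  have hne : T1 ≠ T := fun e => hT (e ▸ hT1)
  set T2 := T1 ⊓ normalizer (T : Set G) with hT2def
  have hT2 : T < T2 := by
    refine lt_of_le_of_ne (le_inf hle Subgroup.le_normalizer) fun e => ?_
    have hlt : T.subgroupOf T1 < ⊤ := by
      rw [lt_top_iff_ne_top, ne_eq, subgroupOf_eq_top]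
      exact fun hle' => hne (le_antisymm hle' hle)
    have : Group.IsNilpotent T1 := hT1.isPGroup.isNilpotent
    obtain ⟨x, hxN, hxT⟩ := SetLike.exists_of_lt (Group.normalizerCondition_of_isNilpotent _ hlt)
    rw [← subgroupOf_normalizer_eq hle, mem_subgroupOf] at hxN
    exact hxT (mem_subgroupOf.2 (e.ge (mem_inf.2 ⟨x.2, hxN⟩)))
  have hT2M : T2 ≤ core A := by
    intro x hx
    refine hNB x fun b hb => ?_
    have hbT : b ∈ T := mem_inf.2 ⟨h.le (mem_inf.1 hb).1, (mem_inf.1 hb).2⟩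
    have h1 := (mem_normalizer_iff.1 (mem_inf.1 hx).2 b).1 hbT
    exact mem_inf.2 ⟨h.closed b (mem_inf.1 hb).1 x (mem_inf.1 h1).1, (mem_inf.1 h1).2⟩
  have hSM : (S : Subgroup G) ≤ core A := h.sylow_le_normalizer.trans le_sup_left
  obtain ⟨m, hm, hmT⟩ := ((Control.sylIn_top S).mono hSM le_top).exists_cjSub_le
    (hT1.isPGroup.to_le inf_le_left) hT2M
  have htT : t ∈ T2 := hT2.le (mem_inf.2 ⟨ht, mem_centralizer_singleton_iff.2 rfl⟩)
  set t' := m * t * m⁻¹ with ht'def
  have ht' : t' ∈ (S : Subgroup G) := hmT ⟨t, htT, rfl⟩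
  have ht'2 : orderOf t' = 2 := (Invol.orderOf_conj m t).trans ht2
  have hbig : Control.cjSub m T2 ≤ (S : Subgroup G) ⊓ centralizer ({t'} : Set G) := by
    refine le_inf hmT ?_
    rintro _ ⟨x, hx, rfl⟩
    refine mem_centralizer_singleton_iff.2 ?_
    show m * x * m⁻¹ * (m * t * m⁻¹) = m * t * m⁻¹ * (m * x * m⁻¹)
    calc _ = m * (x * t) * m⁻¹ := by group
      _ = _ := by rw [mem_centralizer_singleton_iff.1 (hT1.le (mem_inf.1 hx).1)]; group
  have hc1 : Nat.card T < Nat.card ↥((S : Subgroup G) ⊓ centralizer ({t'} : Set G)) :=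
    (Core.card_lt_of_lt hT2).trans_le ((Control.card_cjSub m T2).ge.trans (card_le_of_le hbig))
  have hc2 := Subgroup.card_le_card_group ((S : Subgroup G) ⊓ centralizer ({t'} : Set G))
  have key := ih _ (by rw [← hn]; omega) ht' ht'2 rfl
  intro g hg
  have h1 : m * g * m⁻¹ ∈ centralizer ({t'} : Set G) := by
    refine mem_centralizer_singleton_iff.2 ?_
    calc m * g * m⁻¹ * t' = m * (g * t) * m⁻¹ := by rw [ht'def]; group
      _ = _ := by rw [mem_centralizer_singleton_iff.1 hg, ht'def]; group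
  have := mul_mem (mul_mem (inv_mem hm) (key h1)) hm
  rwa [show m⁻¹ * (m * g * m⁻¹) * m = g by group] at this

/-- A strongly closed elementary abelian subgroup of order at least 8 gives a strongly embedded
subgroup. -/
theorem Ctx.stronglyEmbedded (h : Ctx S A) : Cfsg.IsStronglyEmbedded (core A) := by
  have : Fact (Nat.Prime 2) := ⟨Nat.prime_two⟩
  have hSM : (S : Subgroup G) ≤ core A := h.sylow_le_normalizer.trans le_sup_left
  obtain ⟨z, hzA, hz1, -⟩ := h.central
  refine (Invol.se_iff _).2 ⟨h.core_ne_top, ?_, fun t g ht htH htg => ?_⟩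
  · rw [even_iff_two_dvd, ← h.orderOf_eq hzA hz1]
    exact orderOf_mk z (hSM (h.le hzA)) ▸ orderOf_dvd_natCard (⟨z, hSM (h.le hzA)⟩ : core A)
  have hp : IsPGroup 2 (zpowers t) := IsPGroup.of_card (n := 1) (by rw [Nat.card_zpowers, ht, pow_one])
  obtain ⟨m, hm, hmt⟩ := ((Control.sylIn_top S).mono hSM le_top).exists_cjSub_le hp (zpowers_le.2 htH)
  have hx : m * t * m⁻¹ ∈ (S : Subgroup G) := hmt ⟨t, mem_zpowers t, rfl⟩
  have := LocalStructure.mem_of_conj_mem (core A) S hSM (fun x hx hxo => h.centralizer_le hx hxo)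
    (h.le_normalizer.trans le_sup_left) hx ((Invol.orderOf_conj m t).trans ht)
    (g := g⁻¹ * m⁻¹) (by
      rwa [show g⁻¹ * m⁻¹ * (m * t * m⁻¹) * (g⁻¹ * m⁻¹)⁻¹ = g⁻¹ * t * g by group])
  have h2 := inv_mem (mul_mem this hm)
  rwa [inv_mul_cancel_right, inv_inv] at h2

theorem le_core (h : Ctx S A) : A ≤ core A :=
  h.le.trans (h.sylow_le_normalizer.trans le_sup_left)

end Cfsg.Agent.ClosedSE
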