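import Cfsg.Agent.ClosedSE.Closed
import Cfsg.Agent.ClosedSE.SE
import Cfsg.Agent.Invol.Isolated
import Cfsg.Agent.S4Comp.Section

/-!
# Finding a strongly closed elementary abelian subgroup of order at least 8
-/

set_option autoImplicit false

namespace Cfsg.Agent.ClosedSE

open Subgroup

universe u

variable {G : Type u} [Group G] [Finite G]

/-- If the 3-elements of `N(A)` centralise `A`, then `A` has order at least 8. -/
theorem eight_le [IsSimpleGroup G] (hn : ¬ IsCyclic G) (S : Sylow 2 G) {A : Subgroup G}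
    (hA : Cfsg.IsElementaryAbelian 2 A) (hle : A ≤ (S : Subgroup G))
    (hcl : ∀ a ∈ A, ∀ g : G, g * a * g⁻¹ ∈ (S : Subgroup G) → g * a * g⁻¹ ∈ A)
    {z : G} (hzA : z ∈ A) (hz1 : z ≠ 1) (hzS : (S : Subgroup G) ≤ centralizer ({z} : Set G))
    (h3 : ∀ y ∈ normalizer (A : Set G), (∃ i, orderOf y = 3 ^ i) → Commute y z) :
    8 ≤ Nat.card A := by
  have : Fact (Nat.Prime 2) := ⟨Nat.prime_two⟩
  by_contra hlt
  have h4 : Nat.card A ≤ 4 := by
    obtain ⟨k, hk⟩ := IsPGroup.iff_card.1 (S.2.to_le hle : IsPGroup 2 A)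
    have : k ≤ 2 := by
      by_contra hk2
      exact hlt (hk ▸ (Nat.pow_le_pow_right two_pos (show 3 ≤ k by omega)))
    rw [hk]
    exact (Nat.pow_le_pow_right two_pos this).trans (by norm_num)
  have hab : ∀ a ∈ A, ∀ b ∈ A, a * b = b * a := fun a ha b hb =>
    congrArg Subtype.val (hA.1.is_comm.comm ⟨a, ha⟩ ⟨b, hb⟩)
  set N := normalizer (A : Set G)
  have hSN : (S : Subgroup G) ≤ N := fun s hs => by
    refine mem_normalizer_fintype (S := (A : Set G)) fun a ha => ?_
    exact hcl a ha s (mul_mem (mul_mem hs (hle ha)) (inv_mem hs))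
  -- every element of `N(A)` fixes `z`
  have hfix : N ≤ centralizer ({z} : Set G) := by
    have h1 : (centralizer ({z} : Set G)).subgroupOf N = ⊤ := by
      refine S4Comp.eq_top_of_odd (S.subtype hSN) (fun x hx => mem_subgroupOf.2 (hzS hx)) fun x hx => ?_
      refine mem_subgroupOf.2 (mem_centralizer_singleton_iff.2 ?_)
      set y : G := (x : G) with hy
      rw [← Subgroup.orderOf_coe, ← hy] at hx
      show y * z = z * y
      -- the period of `z` under `y` divides 3
      have hcube : Commute (y ^ 3) z := by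
        classical
        have := Fintype.ofFinite A
        let f : ℕ → A := fun j => ⟨y ^ j * z * (y ^ j)⁻¹,
          (mem_normalizer_iff.1 (pow_mem x.2 j) z).1 hzA⟩
        by_contra hnc
        have hne : ∀ j, f j ≠ 1 := fun j e => hz1 (conj_eq_one_iff.1 (congrArg Subtype.val e))
        have hj : ∀ i j : ℕ, i < j → f i = f j → Commute (y ^ (j - i)) z := by
          intro i j hij e
          have e' : y ^ i * z * (y ^ i)⁻¹ = y ^ j * z * (y ^ j)⁻¹ := congrArg Subtype.val e
          rw [show j = i + (j - i) by omega, pow_add] at e'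
          refine mul_inv_eq_iff_eq_mul.1 ?_
          calc y ^ (j - i) * z * (y ^ (j - i))⁻¹
              = (y ^ i)⁻¹ * (y ^ i * y ^ (j - i) * z * (y ^ i * y ^ (j - i))⁻¹) * y ^ i := by group
            _ = z := by rw [← e']; group
        have hodd : ∀ d : ℕ, d ∈ ({1, 2} : Finset ℕ) → Commute (y ^ d) z → Commute y z := by
          intro d hd hc
          fin_cases hd
          · simpa using hc
          · obtain ⟨k, hk⟩ := hx
            have h2 := hc.pow_left (k + 1)
            rwa [← pow_mul, show 2 * (k + 1) = orderOf y + 1 by omega, pow_succ, pow_orderOf_eq_one,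
              one_mul] at h2
        have hd : f 0 ≠ f 1 ∧ f 0 ≠ f 2 ∧ f 0 ≠ f 3 ∧ f 1 ≠ f 2 ∧ f 1 ≠ f 3 ∧ f 2 ≠ f 3 := by
          refine ⟨?_, ?_, ?_, ?_, ?_, ?_⟩ <;> intro e
          · exact hnc ((hodd 1 (by simp) (hj 0 1 (by omega) e)).pow_left 3)
          · exact hnc ((hodd 2 (by simp) (hj 0 2 (by omega) e)).pow_left 3)
          · exact hnc (hj 0 3 (by omega) e)
          · exact hnc ((hodd 1 (by simp) (hj 1 2 (by omega) e)).pow_left 3)
          · exact hnc ((hodd 2 (by simp) (hj 1 3 (by omega) e)).pow_left 3)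
          · exact hnc ((hodd 1 (by simp) (hj 2 3 (by omega) e)).pow_left 3)
        have hcard : ({1, f 0, f 1, f 2, f 3} : Finset A).card = 5 := by
          simp [hd.1, hd.2.1, hd.2.2.1, hd.2.2.2.1, hd.2.2.2.2.1, hd.2.2.2.2.2, Finset.card_insert_of_notMem,
            (hne 0).symm, (hne 1).symm, (hne 2).symm, (hne 3).symm]
        have := Finset.card_le_univ ({1, f 0, f 1, f 2, f 3} : Finset A)
        rw [hcard, ← Nat.card_eq_fintype_card] at this
        omega
      obtain ⟨i, m, hm3, hoy⟩ := Nat.exists_eq_pow_mul_and_not_dvd (orderOf_pos y).ne' 3 (by norm_num)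
      have hym : Commute (y ^ m) z := by
        refine h3 _ (pow_mem x.2 m) ⟨i, ?_⟩
        have hm0 : m ≠ 0 := fun e => hm3 (e ▸ dvd_zero 3)
        rw [orderOf_pow_of_dvd hm0 ⟨3 ^ i, by rw [hoy]; ring⟩, hoy,
          Nat.mul_div_cancel _ (Nat.pos_of_ne_zero hm0)]
      have hgcd : Nat.gcd 3 m = 1 := (Nat.prime_three.coprime_iff_not_dvd.2 hm3)
      have h1 : Commute (y ^ (3 : ℤ) ) z := by exact_mod_cast hcube
      have h2 : Commute (y ^ (m : ℤ)) z := by rw [zpow_natCast]; exact hym
      have hb := Nat.gcd_eq_gcd_ab 3 m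
      rw [hgcd] at hb
      have h12 := (h1.zpow_left (Nat.gcdA 3 m)).mul_left (h2.zpow_left (Nat.gcdB 3 m))
      rw [← zpow_mul, ← zpow_mul, ← zpow_add] at h12
      push_cast at hb
      rw [← hb, zpow_one] at h12
      exact h12
    exact subgroupOf_eq_top.1 h1
  have hz2 : orderOf z = 2 := orderOf_eq_prime (hA.2 z hzA) hz1
  -- control of fusion
  have hiso : Cfsg.IsIsolatedInvolution z := by
    refine Invol.isolated_of_sylow S hz2 fun g hg => ?_
    have hg' := hcl z hzA g hg
    set C := centralizer ({g * z * g⁻¹} : Set G)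
    have hAp : IsPGroup 2 A := S.2.to_le hle
    obtain ⟨T, hT, hAT⟩ := Control.SylIn.exists_ge (p := 2) hAp
      (show A ≤ C from fun b hb => mem_centralizer_singleton_iff.2 (hab b hb _ hg'))
    obtain ⟨c, hc, hcT⟩ := hT.exists_cjSub_le (Control.isPGroup_cjSub hAp (g := g))
      (show Control.cjSub g A ≤ C by
        rintro _ ⟨b, hb, rfl⟩
        refine mem_centralizer_singleton_iff.2 ?_
        show g * b * g⁻¹ * (g * z * g⁻¹) = g * z * g⁻¹ * (g * b * g⁻¹)
        calc _ = g * (b * z) * g⁻¹ := by group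
          _ = _ := by rw [hab b hb z hzA]; group)
    obtain ⟨k, -, hk⟩ := (Control.sylIn_top S).exists_cjSub_le hT.isPGroup le_top
    have key : ∀ x : G, Control.cjSub x A ≤ (S : Subgroup G) → Control.cjSub x A = A := fun x hx =>
      eq_of_le_of_card_ge (by rintro _ ⟨b, hb, rfl⟩; exact hcl b hb x (hx ⟨b, hb, rfl⟩))
        (Control.card_cjSub x A).ge
    have e1 : Control.cjSub k A = A := key k ((map_mono hAT).trans hk)
    have e2 : Control.cjSub (k * (c * g)) A = A := key _ (by
      rw [← Control.cjSub_cjSub, ← Control.cjSub_cjSub c g]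
      exact (map_mono hcT).trans hk)
    have h3 := mul_mem (inv_mem (Control.mem_normalizer_of_cjSub_eq e1))
      (Control.mem_normalizer_of_cjSub_eq e2)
    rw [inv_mul_cancel_left] at h3
    have h4 := mem_centralizer_singleton_iff.1 (hfix h3)
    calc g * z * g⁻¹ = c⁻¹ * (c * (g * z * g⁻¹)) := by group
      _ = c⁻¹ * (c * g * z * (c * g)⁻¹) * c := by group
      _ = c⁻¹ * z * c := by rw [h4]; group
      _ = z := by
        have h5 := mem_centralizer_singleton_iff.1 hc
        have h6 : c * g * z * (c * g)⁻¹ = g * z * g⁻¹ := by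
          calc c * g * z * (c * g)⁻¹ = c * (g * z * g⁻¹) * c⁻¹ := by group
            _ = _ := by rw [h5]; group
        rw [h4, mul_inv_cancel_right] at h6
        rw [← h6] at h5
        rw [mul_assoc, ← h5]
        group
  have hO := FTCons.oddCore_eq_bot_of_simple (G := G) (even_iff_two_dvd.2 (hz2 ▸ orderOf_dvd_natCard z))
  refine hn (FTCons.isCyclic_of_central (z := z) (mem_center_iff.2 fun g => ?_) hz1)
  have := Invol.zstar hiso g
  rw [hO, mem_bot, mul_inv_eq_one, mul_inv_eq_iff_eq_mul] at this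
  exact this.symm

open Cfsg.Agent.S4Comp (SecHyp wJ zF) in
/-- Minimal simple groups with no involvement of `S₄` in which 3-elements centralise the
2-subgroups they normalise have a strongly embedded subgroup containing a four-group. -/
theorem exists_stronglyEmbedded [IsSimpleGroup G] (hn : ¬ IsCyclic G) (heven : Even (Nat.card G))
    (hsolv : ∀ H : Subgroup G, H ≠ ⊤ → Group.IsSolvable H) (h : SecHyp G)
    (h3 : ∀ A : Subgroup G, IsPGroup 2 A → ∀ y ∈ normalizer (A : Set G), (∃ i, orderOf y = 3 ^ i) →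
      ∀ a ∈ A, Commute y a) :
    ∃ M : Subgroup G, Cfsg.IsStronglyEmbedded M ∧
      ∃ A : Subgroup G, A ≤ M ∧ Cfsg.IsElementaryAbelian 2 A ∧ 8 ≤ Nat.card A := by
  have : Fact (Nat.Prime 2) := ⟨Nat.prime_two⟩
  obtain ⟨S⟩ : Nonempty (Sylow 2 G) := inferInstance
  set A := aJ (S : Subgroup G)
  have hAW : A ≤ wJ (S : Subgroup G) := aJ_le_wJ h S
  have hle : A ≤ (S : Subgroup G) := hAW.trans ((S4Comp.wJ_le_jS _).trans (SfFree.jS_le _))
  have hea : Cfsg.IsElementaryAbelian 2 A := by
    have hw := S4Comp.wJ_ea (S : Subgroup G)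
    exact ⟨⟨⟨fun a b => Subtype.ext (show (a : G) * b = b * a from congrArg Subtype.val
      (hw.1.is_comm.comm ⟨(a : G), hAW a.2⟩ ⟨(b : G), hAW b.2⟩))⟩⟩, fun a ha => hw.2 a (hAW ha)⟩
  have hcl := aJ_closed h S
  have hne : (S : Subgroup G) ≠ ⊥ := fun e => by
    have := Sylow.dvd_card_of_dvd_card S (even_iff_two_dvd.1 heven)
    rw [e, card_bot] at this
    omega
  obtain ⟨z, hzS, hz2, hzc⟩ := FTCons.exists_central_involution (S : Subgroup G) S.2 hne
  have hz1 : z ≠ 1 := fun e => by rw [e, orderOf_one] at hz2; omega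
  have hzA : z ∈ A := omega_zF_le_aJ _ (Thompson.mem_omegaOne
    (mem_inf.2 ⟨hzS, mem_centralizer_iff.2 hzc⟩) (by rw [← hz2, pow_orderOf_eq_one]))
  have hzC : (S : Subgroup G) ≤ centralizer ({z} : Set G) := fun s hs =>
    mem_centralizer_singleton_iff.2 (hzc s hs)
  have h8 := eight_le hn S hea hle hcl hzA hz1 hzC fun y hy hi => h3 A (S.2.to_le hle) y hy hi z hzA
  have hctx : Ctx S A := ⟨inferInstance, hn, hsolv, hea, hle, hcl, h8, z, hzA, hz1, hzC⟩
  exact ⟨core A, hctx.stronglyEmbedded, A, le_core hctx, hea, h8⟩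

end Cfsg.Agent.ClosedSE
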